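import Groth.Agent.S0582
import Mathlib.Algebra.Module.Projective
import Mathlib.RingTheory.LocalRing.RingHom.Basic
import Mathlib.Algebra.Module.LocalizedModule.AtPrime
import Mathlib.RingTheory.Localization.Finiteness
import Mathlib.RingTheory.Localization.AtPrime.Basic
import Mathlib.RingTheory.Jacobson.Ideal
import Mathlib.RingTheory.Localization.BaseChange
import Mathlib.RingTheory.TensorProduct.Free
import Mathlib.RingTheory.Noetherian.Basic
import Mathlib.LinearAlgebra.Finsupp.LinearCombination
import Mathlib.LinearAlgebra.Projection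
import Mathlib.Tactic.LinearCombination
import Mathlib.Tactic.Module
import Mathlib.LinearAlgebra.FreeModule.Finite.Basic

/-!
# Bass: projective modules of infinite rank
-/

set_option autoImplicit false

universe u

open scoped Pointwise

noncomputable section

namespace Groth.Agent.SerreSplit.Bass

variable {R : Type u} [CommRing R] {P : Type u} [AddCommGroup P] [Module R P]

/-- `P/xP` is not finitely generated, for all maximal ideals `x` -/
def Big (R : Type u) [CommRing R] (P : Type u) [AddCommGroup P] [Module R P] : Prop :=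
  ∀ x : Ideal R, x.IsMaximal → ∀ G : Finset P, Submodule.span R (G : Set P) ⊔ x • (⊤ : Submodule R P) ≠ ⊤

lemma Big.of_surjective {Q : Type u} [AddCommGroup Q] [Module R Q] (h : Big R P) (f : Q →ₗ[R] P)
    (hf : Function.Surjective f) : Big R Q := by
  classical
  intro x hx G hG
  refine h x hx (G.image f) (eq_top_iff.2 ?_)
  have := congrArg (Submodule.map f) hG
  rw [Submodule.map_sup, Submodule.map_smul'', Submodule.map_top, LinearMap.range_eq_top.2 hf, Submodule.map_span] at this
  rw [Finset.coe_image]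
  exact this.ge

theorem big_of_not_finite [Module.Projective R P]
    (hP : ∀ (m : Ideal R) [m.IsMaximal],
      ¬ Module.Finite (Localization.AtPrime m) (LocalizedModule m.primeCompl P)) : Big R P := by
  classical
  intro x hx G hG
  apply hP x
  let A := Localization.AtPrime x
  let Q := LocalizedModule x.primeCompl P
  haveI : Module.Projective A Q := Module.Projective.of_equiv
    (LocalizedModule.equivTensorProduct x.primeCompl P).symm
  haveI : Module.Free A Q := Groth.Agent.S0582.result A Q
  let b := Module.Free.chooseBasis A Q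
  let f := LocalizedModule.mkLinearMap x.primeCompl P
  -- the coordinates meeting the generators
  let I0 : Finset (Module.Free.ChooseBasisIndex A Q) := G.biUnion fun g => (b.repr (f g)).support
  by_cases hI : ∀ i, i ∈ I0
  · haveI : Finite (Module.Free.ChooseBasisIndex A Q) :=
      Finite.of_injective (fun i => (⟨i, hI i⟩ : I0)) fun a c h => congrArg Subtype.val h
    exact Module.Finite.of_basis b
  push Not at hI
  obtain ⟨i, hi⟩ := hI
  exfalso
  have hcoord : ∀ p : P, b.repr (f p) i ∈ IsLocalRing.maximalIdeal A := by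
    intro p
    have hp : p ∈ Submodule.span R (G : Set P) ⊔ x • (⊤ : Submodule R P) := by rw [hG]; trivial
    obtain ⟨y, hy, z, hz, rfl⟩ := Submodule.mem_sup.1 hp
    rw [map_add, map_add, Finsupp.add_apply]
    refine add_mem ?_ ?_
    · clear hp
      suffices b.repr (f y) i = 0 by rw [this]; exact zero_mem _
      induction hy using Submodule.span_induction with
      | mem g hg => exact Finsupp.notMem_support_iff.1 fun h => hi (Finset.mem_biUnion.2 ⟨g, hg, h⟩)
      | zero => simp
      | add u v _ _ hu hv => rw [map_add, map_add, Finsupp.add_apply, hu, hv, add_zero]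
      | smul c u _ hu =>
        rw [LinearMap.map_smul, ← algebraMap_smul A c (f u), LinearEquiv.map_smul, Finsupp.smul_apply, hu, smul_zero]
    · refine Submodule.smul_induction_on hz (fun a ha n _ => ?_) (fun u v hu hv => ?_)
      · rw [LinearMap.map_smul, ← algebraMap_smul A a (f n), LinearEquiv.map_smul, Finsupp.smul_apply, smul_eq_mul]
        exact Ideal.mul_mem_right _ _ ((IsLocalization.AtPrime.to_map_mem_maximal_iff A x a).2 ha)
      · rw [map_add, map_add, Finsupp.add_apply]; exact add_mem hu hv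
  obtain ⟨⟨p, t⟩, hpt⟩ := IsLocalizedModule.surj x.primeCompl f (b i)
  have h1 := hcoord p
  rw [← hpt, Submonoid.smul_def, ← algebraMap_smul A (t : R) (b i), LinearEquiv.map_smul, Finsupp.smul_apply,
    b.repr_self, Finsupp.single_eq_same, smul_eq_mul, mul_one] at h1
  exact t.2 ((IsLocalization.AtPrime.to_map_mem_maximal_iff A x t).1 h1)

lemma mem_smul_top_of_forall [Module.Projective R P] (x : Ideal R) {u : P}
    (h : ∀ φ : P →ₗ[R] R, φ u ∈ x) : u ∈ x • (⊤ : Submodule R P) := by
  obtain ⟨sec, hsec⟩ := Module.projective_def.1 (‹Module.Projective R P›)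
  rw [← hsec u, Finsupp.linearCombination_apply]
  exact Submodule.sum_mem _ fun q _ => Submodule.smul_mem_smul (h ((Finsupp.lapply q).comp sec)) trivial

theorem exists_unimodular [IsNoetherianRing (R ⧸ (⊥ : Ideal R).jacobson)] [Module.Projective R P]
    (hP : Big R P) (s : P) (M : Submodule R P) (hM : Submodule.span R {s} ⊔ M = ⊤) :
    ∃ m ∈ M, ∃ φ : P →ₗ[R] R, φ (s + m) = 1 := by
  classical
  let J : Ideal R := (⊥ : Ideal R).jacobson
  haveI : IsNoetherian R (R ⧸ J) := ⟨fun N => by
    let I : Submodule (R ⧸ J) (R ⧸ J) :=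
      { carrier := N
        zero_mem' := zero_mem N
        add_mem' := add_mem
        smul_mem' := fun c y hy => by
          obtain ⟨c, rfl⟩ := Ideal.Quotient.mk_surjective c
          simpa [Algebra.smul_def] using N.smul_mem c hy }
    obtain ⟨t, ht⟩ := IsNoetherian.noetherian I
    refine ⟨t, ?_⟩
    rw [← Submodule.restrictScalars_span R (R ⧸ J) Ideal.Quotient.mk_surjective, ht]
    rfl⟩
  let O : P → Ideal R := fun p => LinearMap.range (LinearMap.applyₗ (R := R) (M := P) (M₂ := R) p) ⊔ J
  let Ob : P → Submodule R (R ⧸ J) := fun p => Submodule.map (Submodule.mkQ J) (O p)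
  obtain ⟨_, ⟨m, hm, rfl⟩, hmax⟩ := set_has_maximal_iff_noetherian.2 (inferInstance : IsNoetherian R (R ⧸ J))
    {I | ∃ m ∈ M, I = Ob (s + m)} ⟨_, 0, zero_mem _, rfl⟩
  refine ⟨m, hm, ?_⟩
  by_cases htop : (O (s + m) : Ideal R) = ⊤
  · obtain ⟨a, ⟨φ, rfl⟩, c, hc, hac⟩ := Submodule.mem_sup.1 (show (1 : R) ∈ O (s + m) by rw [htop]; trivial)
    have hu : IsUnit (φ (s + m)) := by
      have h2 : φ (s + m) + c = 1 := hac
      have h1 : φ (s + m) = -c * 1 + 1 := by linear_combination h2
      rw [h1]
      exact Ideal.mem_jacobson_bot.1 (neg_mem hc) 1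
    obtain ⟨w, hw⟩ := hu.exists_left_inv
    exact ⟨w • φ, by rw [LinearMap.smul_apply, smul_eq_mul, hw]⟩
  exfalso
  obtain ⟨x, hx, hOx⟩ := Ideal.exists_le_maximal _ htop
  -- finitely many functionals compute `O`
  obtain ⟨Φs, hΦs⟩ : ∃ Φs : Finset (P →ₗ[R] R),
      Ob (s + m) = Submodule.span R ((fun φ => Submodule.Quotient.mk (φ (s + m))) '' (Φs : Set (P →ₗ[R] R))) := by
    have hOb : Ob (s + m) = Submodule.span R (Set.range fun φ : P →ₗ[R] R => (Submodule.Quotient.mk (φ (s + m)) : R ⧸ J)) := by
      refine le_antisymm ?_ (Submodule.span_le.2 ?_)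
      · rintro _ ⟨y, hy, rfl⟩
        obtain ⟨_, ⟨φ, rfl⟩, c, hc, rfl⟩ := Submodule.mem_sup.1 hy
        rw [map_add, show Submodule.mkQ J c = 0 from (Submodule.Quotient.mk_eq_zero _).2 hc, add_zero]
        exact Submodule.subset_span ⟨φ, rfl⟩
      · rintro _ ⟨φ, rfl⟩
        exact ⟨φ (s + m), Submodule.mem_sup_left ⟨φ, rfl⟩, rfl⟩
    obtain ⟨t, ht, hspan⟩ := Submodule.fg_span_iff_fg_span_finset_subset _ |>.1 (IsNoetherian.noetherian (Ob (s + m))|> (hOb ▸ ·))
    choose φ hφ using fun y : t => ht y.2
    refine ⟨Finset.univ.image φ, ?_⟩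
    rw [hOb, hspan]
    congr 1
    ext y
    simp only [Finset.coe_image, Finset.coe_univ, Set.image_univ, ← Set.range_comp, Set.mem_range, Function.comp_apply]
    exact ⟨fun hy => ⟨⟨y, hy⟩, hφ _⟩, fun ⟨z, hz⟩ => hz ▸ Set.mem_of_eq_of_mem (hφ z) z.2⟩
  let Ψ : P →ₗ[R] (Φs → R ⧸ J) := LinearMap.pi fun φ => (Submodule.mkQ J).comp φ.1
  haveI : IsNoetherian R (Φs → R ⧸ J) := inferInstance
  obtain ⟨T, hT⟩ := IsNoetherian.noetherian (M.map Ψ)
  have hsub : (T : Set (Φs → R ⧸ J)) ⊆ Ψ '' M := fun y hy => by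
    have : y ∈ M.map Ψ := hT ▸ Submodule.subset_span hy
    exact this
  obtain ⟨G, hGM, hGT⟩ := Finset.subset_set_image_iff.1 hsub
  refine hP x hx (insert (s + m) G) (eq_top_iff.2 ?_)
  refine hM.ge.trans (sup_le ?_ ?_)
  all_goals
    have hMle : M ≤ Submodule.span R ((insert (s + m) G : Finset P) : Set P) ⊔ x • (⊤ : Submodule R P) := by
      intro z hz
      have h1 : Ψ z ∈ (Submodule.span R (G : Set P)).map Ψ := by
        rw [Submodule.map_span, ← Finset.coe_image, hGT, hT]
        exact Submodule.mem_map_of_mem hz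
      obtain ⟨g, hg, hgz⟩ := h1
      have hgM : g ∈ M := Submodule.span_le.2 hGM hg
      have hu : z - g ∈ x • (⊤ : Submodule R P) := by
        refine mem_smul_top_of_forall x fun ψ => ?_
        by_contra hψ
        have h0 : ∀ φ ∈ Φs, (Submodule.Quotient.mk (φ (z - g)) : R ⧸ J) = 0 := fun φ hφ => by
          have h2 : Ψ (z - g) = 0 := by rw [map_sub, hgz, sub_self]
          exact congrFun h2 ⟨φ, hφ⟩
        refine hmax (Ob (s + (m + (z - g)))) ⟨_, add_mem hm (sub_mem hz hgM), rfl⟩ (lt_of_le_not_ge ?_ ?_)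
        · conv_lhs => rw [hΦs]
          refine Submodule.span_le.2 ?_
          rintro _ ⟨φ, hφ, rfl⟩
          refine ⟨φ (s + (m + (z - g))), Submodule.mem_sup_left ⟨φ, rfl⟩, ?_⟩
          rw [← add_assoc, map_add φ (s + m), map_add, show Submodule.mkQ J (φ (z - g)) = 0 from h0 φ hφ, add_zero]
          rfl
        · intro hle
          obtain ⟨y, hy, hyeq⟩ := hle ⟨ψ (s + (m + (z - g))), Submodule.mem_sup_left ⟨ψ, rfl⟩, rfl⟩
          have h3 : y - ψ (s + (m + (z - g))) ∈ J := (Submodule.Quotient.eq _).1 hyeq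
          have h4 : ψ (s + (m + (z - g))) ∈ x := by
            have := sub_mem (hOx hy) (hOx (Submodule.mem_sup_right h3))
            simpa using this
          rw [← add_assoc, map_add] at h4
          exact hψ ((Submodule.add_mem_iff_right x (hOx (Submodule.mem_sup_left ⟨ψ, rfl⟩))).1 h4)
      rw [← sub_add_cancel z g]
      exact add_mem (Submodule.mem_sup_right hu)
        (Submodule.mem_sup_left (Submodule.span_mono (by simp) hg))
  · rw [Submodule.span_singleton_le_iff_mem]
    have h5 : s + m - m ∈ Submodule.span R ((insert (s + m) G : Finset P) : Set P) ⊔ x • (⊤ : Submodule R P) :=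
      sub_mem (Submodule.mem_sup_left (Submodule.subset_span (by simp))) (hMle hm)
    rwa [add_sub_cancel_right] at h5
  · exact hMle

/-- every element lies in a finite free summand of some `R^n × P` -/
theorem exists_free_summand [Module.Projective R P] (s : P) :
    ∃ (n : ℕ) (K K' : Submodule R ((Fin n → R) × P)), IsCompl K K' ∧ Module.Free R K ∧ Module.Finite R K ∧
      ((0, s) : (Fin n → R) × P) ∈ K := by
  classical
  obtain ⟨sec, hsec⟩ := Module.projective_def.1 (‹Module.Projective R P›)
  let T := (sec s).support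
  let c : Fin T.card → P := fun i => T.equivFin.symm i
  let a : (Fin T.card → R) →ₗ[R] P := Fintype.linearCombination R c
  let b : P →ₗ[R] (Fin T.card → R) := LinearMap.pi fun i => (Finsupp.lapply (c i)).comp sec
  have hab : a (b s) = s := by
    conv_rhs => rw [← hsec s, Finsupp.linearCombination_apply, Finsupp.sum, ← Finset.sum_coe_sort]
    rw [← T.equivFin.symm.sum_comp]
    simp [a, b, c, Fintype.linearCombination_apply, T]
  let j : (Fin T.card → R) →ₗ[R] (Fin T.card → R) × P := LinearMap.prod (LinearMap.id - b ∘ₗ a) a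
  let ρ : (Fin T.card → R) × P →ₗ[R] (Fin T.card → R) := LinearMap.coprod LinearMap.id b
  have hρj : ∀ v, ρ (j v) = v := fun v => by simp [ρ, j]
  refine ⟨T.card, LinearMap.range j, LinearMap.ker ρ, ?_, ?_, ?_, ⟨b s, by simp [j, hab]⟩⟩
  · refine ⟨Submodule.disjoint_def.2 ?_, codisjoint_iff.2 (eq_top_iff.2 fun z _ => ?_)⟩
    · rintro _ ⟨v, rfl⟩ hv
      rw [LinearMap.mem_ker, hρj] at hv
      rw [hv, map_zero]
    · exact Submodule.mem_sup.2 ⟨j (ρ z), ⟨_, rfl⟩, z - j (ρ z), by simp [hρj], add_sub_cancel _ _⟩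
  · exact Module.Free.of_equiv (LinearEquiv.ofInjective j (Function.LeftInverse.injective hρj))
  · exact Module.Finite.range j

set_option maxHeartbeats 1000000 in
/-- removing one free coordinate -/
theorem step [IsNoetherianRing (R ⧸ (⊥ : Ideal R).jacobson)] {X : Type u} [AddCommGroup X] [Module R X]
    [Module.Projective R X] (hX : Big R X) (s : X) (K K' : Submodule R (R × X)) (hK : IsCompl K K')
    [Module.Free R K] [Module.Finite R K] (hs : ((0, s) : R × X) ∈ K) :
    ∃ L L' : Submodule R X, IsCompl L L' ∧ Module.Free R L ∧ Module.Finite R L ∧ s ∈ L := by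
  classical
  let pr : R × X →ₗ[R] K' := Submodule.projectionOnto K' K hK.symm
  have hprs : Function.Surjective pr := fun k => ⟨k, Submodule.projectionOnto_apply_left hK.symm k⟩
  have hbig : Big R K' := by
    have hRX : Big R (R × X) := hX.of_surjective (LinearMap.snd R R X) Prod.snd_surjective
    intro x hx G hG
    obtain ⟨GK, hGK⟩ := (inferInstance : Module.Finite R K).fg_top
    refine hRX x hx (G.image Subtype.val ∪ GK.image Subtype.val) (eq_top_iff.2 ?_)
    refine hK.sup_eq_top.ge.trans ?_
    rw [Finset.coe_union, Submodule.span_union, Finset.coe_image, Finset.coe_image]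
    have h1 : K' ≤ Submodule.span R (Subtype.val '' (G : Set K')) ⊔ x • (⊤ : Submodule R (R × X)) := by
      have := congrArg (Submodule.map K'.subtype) hG
      rw [Submodule.map_subtype_top, Submodule.map_sup, Submodule.map_span, Submodule.map_smul''] at this
      exact this.ge.trans (sup_le_sup le_rfl (Submodule.smul_mono le_rfl le_top))
    have h2 : K ≤ Submodule.span R (Subtype.val '' (GK : Set K)) := by
      rw [← Submodule.coe_subtype, ← Submodule.map_span, hGK, Submodule.map_subtype_top]
    exact sup_le (le_trans (le_trans h2 le_sup_right) le_sup_left)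
      (le_trans h1 (sup_le_sup_right le_sup_left _))
  haveI : Module.Projective R K' := Module.Projective.of_split K'.subtype pr
    (LinearMap.ext fun k => Submodule.projectionOnto_apply_left hK.symm k)
  obtain ⟨_, ⟨z, hz, rfl⟩, φ, hφ⟩ := exists_unimodular hbig (pr (1, 0))
    ((LinearMap.range (LinearMap.inr R R X)).map pr) (by
      rw [eq_top_iff]
      intro k _
      obtain ⟨⟨a, y⟩, rfl⟩ := hprs k
      rw [show ((a, y) : R × X) = a • (1, 0) + LinearMap.inr R R X y by simp, map_add, LinearMap.map_smul]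
      exact add_mem (Submodule.mem_sup_left (Submodule.smul_mem _ _ (Submodule.mem_span_singleton_self _)))
        (Submodule.mem_sup_right (Submodule.mem_map_of_mem ⟨y, rfl⟩)))
  obtain ⟨q, rfl⟩ := hz
  let e : R × X := (1, q)
  let ψ : R × X →ₗ[R] R := φ.comp pr
  have hψe : ψ e = 1 := by
    show φ (pr (1, q)) = 1
    rw [show ((1, q) : R × X) = (1, 0) + LinearMap.inr R R X q by simp, map_add]
    exact hφ
  have hψK : ∀ k ∈ K, ψ k = 0 := fun k hk => by
    show φ (pr k) = 0
    rw [show pr k = 0 from (Submodule.projectionOnto_apply_eq_zero_iff hK.symm).2 hk, map_zero]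
  -- projection to `X` along `e`
  let π : R × X →ₗ[R] X := LinearMap.snd R R X - (LinearMap.toSpanSingleton R X q).comp (LinearMap.fst R R X)
  have hπ : ∀ a y, π (a, y) = y - a • q := fun a y => rfl
  have hdec : ∀ w : R × X, w = w.1 • e + (0, π w) := fun w => by
    obtain ⟨a, y⟩ := w; simp [e, hπ]
  have hinj : ∀ w, π w = 0 → ψ w = 0 → w = 0 := fun w h1 h2 => by
    have h3 := hdec w
    rw [h1, show ((0 : R), (0 : X)) = (0 : R × X) from rfl, add_zero] at h3
    rw [h3, LinearMap.map_smul, hψe, smul_eq_mul, mul_one] at h2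
    rw [h3, h2, zero_smul]
  refine ⟨K.map π, (K' ⊓ LinearMap.ker ψ).map π, ⟨Submodule.disjoint_def.2 ?_, codisjoint_iff.2 (eq_top_iff.2 fun y _ => ?_)⟩,
    ?_, ?_, ⟨(0, s), hs, by simp [hπ]⟩⟩
  · rintro _ ⟨k, hk, rfl⟩ ⟨k', ⟨hk', hk'0⟩, hkk⟩
    have h0 : k' - k = 0 := hinj _ (by rw [map_sub, hkk, sub_self]) (by
      rw [map_sub, LinearMap.mem_ker.1 hk'0, hψK k hk, sub_zero])
    rw [sub_eq_zero] at h0
    subst h0
    rw [Submodule.disjoint_def.1 hK.disjoint k' hk hk', map_zero]
  · obtain ⟨k, hk, k', hk', hsum⟩ := Submodule.mem_sup.1 (show ((0, y) : R × X) ∈ K ⊔ K' by rw [hK.sup_eq_top]; trivial)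
    -- remove the `e`-component, staying inside `K ⊕ (K' ∩ ker ψ)`
    obtain ⟨l, hl, l', hl', hle⟩ := Submodule.mem_sup.1 (show e ∈ K ⊔ K' by rw [hK.sup_eq_top]; trivial)
    have hψl' : ψ l' = 1 := by rw [← hψe, ← hle, map_add, hψK l hl, zero_add]
    refine Submodule.mem_sup.2 ⟨_, ⟨k - ψ k' • l, sub_mem hk (Submodule.smul_mem _ _ hl), rfl⟩, _,
      ⟨k' - ψ k' • l', ⟨sub_mem hk' (Submodule.smul_mem _ _ hl'), by simp [hψl']⟩, rfl⟩, ?_⟩
    have hπe : π e = 0 := by simp [e, hπ]
    have : π (k + k') = y := by rw [hsum, hπ, zero_smul, sub_zero]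
    rw [← this, ← hle] at *
    rw [map_add] at hπe
    simp only [map_sub, map_add, LinearMap.map_smul]
    linear_combination (norm := module) (-(ψ k')) • hπe
  · exact Module.Free.of_equiv (LinearEquiv.ofBijective (π.restrict (p := K) (q := K.map π) fun w hw => Submodule.mem_map_of_mem hw)
      ⟨(injective_iff_map_eq_zero _).2 fun w hw => Subtype.ext (hinj _ (congrArg Subtype.val hw) (hψK _ w.2)),
        fun ⟨y, k, hk, hky⟩ => ⟨⟨k, hk⟩, Subtype.ext hky⟩⟩)
  · exact Module.Finite.iff_fg.2 ((Module.Finite.iff_fg.1 ‹Module.Finite R K›).map π)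

theorem exists_free_summand_self [IsNoetherianRing (R ⧸ (⊥ : Ideal R).jacobson)] [Module.Projective R P]
    (hP : Big R P) (s : P) :
    ∃ K K' : Submodule R P, IsCompl K K' ∧ Module.Free R K ∧ Module.Finite R K ∧ s ∈ K := by
  obtain ⟨n, hn⟩ := exists_free_summand (R := R) s
  induction n with
  | zero =>
    obtain ⟨K, K', hK, hf, hfin, hs⟩ := hn
    let e : ((Fin 0 → R) × P) ≃ₗ[R] P := LinearEquiv.ofBijective (LinearMap.snd R (Fin 0 → R) P)
      ⟨fun a c h => Prod.ext (Subsingleton.elim _ _) h, Prod.snd_surjective⟩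
    exact ⟨K.map e.toLinearMap, K'.map e.toLinearMap, (Submodule.orderIsoMapComap e).isCompl hK,
      Module.Free.of_equiv (e.submoduleMap K), Module.Finite.equiv (e.submoduleMap K), ⟨_, hs, rfl⟩⟩
  | succ n ih =>
    obtain ⟨K, K', hK, hf, hfin, hs⟩ := hn
    let e : ((Fin (n + 1) → R) × P) ≃ₗ[R] (R × ((Fin n → R) × P)) :=
      { toFun := fun w => (w.1 0, (Fin.tail w.1, w.2))
        invFun := fun w => (Fin.cons w.1 w.2.1, w.2.2)
        map_add' := fun a c => rfl
        map_smul' := fun a c => rfl
        left_inv := fun w => by simp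
        right_inv := fun w => by simp }
    haveI : Module.Free R (K.map e.toLinearMap) := Module.Free.of_equiv (e.submoduleMap K)
    haveI : Module.Finite R (K.map e.toLinearMap) := Module.Finite.equiv (e.submoduleMap K)
    exact ih (step (hP.of_surjective (LinearMap.snd R (Fin n → R) P) Prod.snd_surjective) (0, s) (K.map e.toLinearMap) (K'.map e.toLinearMap)
      ((Submodule.orderIsoMapComap e).isCompl hK) ⟨_, hs, rfl⟩)

end Groth.Agent.SerreSplit.Bass
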