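import Mathlib.RingTheory.Spectrum.Maximal.Topology
import Mathlib.RingTheory.Spectrum.Maximal.Basic
import Mathlib.RingTheory.Ideal.Quotient.Operations
import Mathlib.RingTheory.Finiteness.Basic
import Mathlib.LinearAlgebra.Dimension.RankNullity
import Mathlib.LinearAlgebra.LinearIndependent.Lemmas
import Mathlib.LinearAlgebra.Matrix.Adjugate
import Mathlib.LinearAlgebra.Matrix.NonsingularInverse
import Mathlib.LinearAlgebra.Basis.VectorSpace
import Mathlib.Topology.NoetherianSpace
import Mathlib.Topology.Sets.Closeds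
import Mathlib.Order.KrullDimension
import Mathlib.Algebra.Module.Torsion.Basic

/-!
# Serre's splitting argument on the maximal spectrum

For a module `M` and a maximal ideal `x`, `V x` is the quotient of `M/xM` by the vectors killed by
every linear form. `exists_step` is Serre's general position statement.
-/

set_option autoImplicit false

universe u

open scoped Pointwise

noncomputable section

namespace Groth.Agent.SerreSplit

variable {R : Type u} [CommRing R] {M : Type u} [AddCommGroup M] [Module R M]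

/-- the vectors of `M/xM` killed by all linear forms -/
def Bq (x : MaximalSpectrum R) : Submodule (R ⧸ x.asIdeal) (M ⧸ (x.asIdeal • ⊤ : Submodule R M)) :=
  Submodule.span (R ⧸ x.asIdeal)
    ((x.asIdeal • ⊤ : Submodule R M).mkQ '' {m : M | ∀ φ : M →ₗ[R] R, φ m ∈ x.asIdeal})

variable (M) in
/-- the space `V(x)` -/
abbrev V (x : MaximalSpectrum R) : Type u :=
  (M ⧸ (x.asIdeal • ⊤ : Submodule R M)) ⧸ Bq (M := M) x

/-- the class in `V(x)` -/
def img (x : MaximalSpectrum R) (m : M) : V M x :=
  (Bq x).mkQ ((x.asIdeal • ⊤ : Submodule R M).mkQ m)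

lemma img_add (x : MaximalSpectrum R) (m m' : M) : img x (m + m') = img x m + img x m' := by
  simp only [img, map_add]

lemma img_smul (x : MaximalSpectrum R) (a : R) (m : M) :
    img x (a • m) = Ideal.Quotient.mk x.asIdeal a • img x m := by
  show (Bq x).mkQ _ = _
  rw [LinearMap.map_smul]
  exact LinearMap.map_smul (Bq (M := M) x).mkQ (Ideal.Quotient.mk x.asIdeal a) ((x.asIdeal • ⊤ : Submodule R M).mkQ m)

lemma img_zero (x : MaximalSpectrum R) : img x (0 : M) = 0 := by
  simp only [img, map_zero]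

lemma img_sum (x : MaximalSpectrum R) {ι : Type*} (s : Finset ι) (f : ι → M) :
    img x (∑ i ∈ s, f i) = ∑ i ∈ s, img x (f i) := by
  simp only [img, map_sum]

lemma img_surjective (x : MaximalSpectrum R) : Function.Surjective (img (M := M) x) :=
  (Submodule.mkQ_surjective _).comp (Submodule.mkQ_surjective _)

lemma img_eq_zero (x : MaximalSpectrum R) {m : M} :
    img x m = 0 ↔ ∀ φ : M →ₗ[R] R, φ m ∈ x.asIdeal := by
  have hle : ∀ {z : M}, z ∈ (x.asIdeal • ⊤ : Submodule R M) → ∀ φ : M →ₗ[R] R, φ z ∈ x.asIdeal := by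
    intro z hz φ
    refine Submodule.smul_induction_on (p := fun z => φ z ∈ x.asIdeal) hz (fun a ha n _ => ?_) (fun a b ha hb => ?_)
    · rw [LinearMap.map_smul, smul_eq_mul]; exact Ideal.mul_mem_right _ _ ha
    · rw [map_add]; exact add_mem ha hb
  constructor
  · intro h φ
    have h' : (x.asIdeal • ⊤ : Submodule R M).mkQ m ∈ Bq (M := M) x := (Submodule.Quotient.mk_eq_zero _).1 h
    suffices key : ∀ q ∈ Bq (M := M) x, ∀ z : M, (x.asIdeal • ⊤ : Submodule R M).mkQ z = q → φ z ∈ x.asIdeal from
      key _ h' m rfl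
    intro q hq
    induction hq using Submodule.span_induction with
    | mem q hq =>
      intro z hz
      obtain ⟨w, hw, rfl⟩ := hq
      have hzw : z - w ∈ (x.asIdeal • ⊤ : Submodule R M) := (Submodule.Quotient.eq _).1 hz
      simpa using add_mem (hle hzw φ) (hw φ)
    | zero => exact fun z hz => hle ((Submodule.Quotient.mk_eq_zero _).1 hz) φ
    | add a b _ _ ha hb =>
      intro z hz
      obtain ⟨a', rfl⟩ := Submodule.mkQ_surjective _ a
      have h1 := hb (z - a') (by rw [map_sub, hz, add_sub_cancel_left])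
      simpa using add_mem h1 (ha a' rfl)
    | smul c a _ ha =>
      intro z hz
      obtain ⟨a', rfl⟩ := Submodule.mkQ_surjective _ a
      obtain ⟨c', rfl⟩ := Ideal.Quotient.mk_surjective c
      have h0 : z - c' • a' ∈ (x.asIdeal • ⊤ : Submodule R M) := (Submodule.Quotient.eq _).1 (hz.trans (by
        rw [Submodule.Quotient.mk_smul]; rfl))
      simpa using add_mem (hle h0 φ) (by
        rw [map_smul, smul_eq_mul]; exact Ideal.mul_mem_left _ _ (ha a' rfl) : φ (c' • a') ∈ x.asIdeal)
  · intro h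
    exact (Submodule.Quotient.mk_eq_zero _).2 (Submodule.subset_span ⟨m, h, rfl⟩)

/-- the images of `s` in `V(x)` are independent -/
def Ind (x : MaximalSpectrum R) {h : ℕ} (s : Fin h → M) : Prop :=
  LinearIndependent (R ⧸ x.asIdeal) (fun i => img x (s i))

lemma ind_snoc_iff (x : MaximalSpectrum R) {h : ℕ} (s : Fin h → M) (t : M) :
    Ind x (Fin.snoc s t : Fin (h + 1) → M) ↔
      LinearIndependent (R ⧸ x.asIdeal) (Fin.snoc (fun i => img x (s i)) (img x t) : Fin (h + 1) → V M x) := by
  rw [Ind, show (fun i => img x ((Fin.snoc s t : Fin (h + 1) → M) i)) =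
    (Fin.snoc (fun i => img x (s i)) (img x t) : Fin (h + 1) → V M x) from Fin.comp_snoc (img x) s t]

lemma exists_separating {x : MaximalSpectrum R} {h : ℕ} {s : Fin h → M} (hs : Ind x s) :
    ∃ φ : Fin h → (M →ₗ[R] R), (Matrix.of fun i j => φ i (s j)).det ∉ x.asIdeal := by
  classical
  letI := Ideal.Quotient.field x.asIdeal
  let W : Submodule (R ⧸ x.asIdeal) (Fin h → R ⧸ x.asIdeal) :=
    { carrier := {w | ∃ φ : M →ₗ[R] R, ∀ j, Ideal.Quotient.mk x.asIdeal (φ (s j)) = w j}
      zero_mem' := ⟨0, fun j => by simp⟩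
      add_mem' := by
        rintro a b ⟨φ, hφ⟩ ⟨ψ, hψ⟩
        exact ⟨φ + ψ, fun j => by simp [hφ j, hψ j]⟩
      smul_mem' := by
        rintro c a ⟨φ, hφ⟩
        obtain ⟨c', rfl⟩ := Ideal.Quotient.mk_surjective c
        exact ⟨c' • φ, fun j => by simp [hφ j]⟩ }
  have hW : W = ⊤ := by
    by_contra hne
    obtain ⟨g, hg0, hg⟩ := Submodule.exists_le_ker_of_lt_top W (lt_top_iff_ne_top.2 hne)
    choose a ha using fun j => Ideal.Quotient.mk_surjective (g (Pi.single j 1))
    have hsum : img x (∑ j, a j • s j) = 0 := (img_eq_zero x).2 fun φ => by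
      rw [← Ideal.Quotient.eq_zero_iff_mem]
      have h2 : g (fun j => Ideal.Quotient.mk x.asIdeal (φ (s j))) = 0 := LinearMap.mem_ker.1 (hg ⟨φ, fun j => rfl⟩)
      rw [pi_eq_sum_univ' (fun j => Ideal.Quotient.mk x.asIdeal (φ (s j))), map_sum] at h2
      rw [map_sum, map_sum, ← h2]
      refine Finset.sum_congr rfl fun j _ => ?_
      rw [LinearMap.map_smul φ, smul_eq_mul, map_mul, ha, LinearMap.map_smul g, smul_eq_mul, mul_comm]
    rw [img_sum] at hsum
    simp only [img_smul] at hsum
    have h0 := Fintype.linearIndependent_iff.1 hs (fun j => Ideal.Quotient.mk x.asIdeal (a j)) hsum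
    refine hg0 (LinearMap.ext fun w => ?_)
    rw [pi_eq_sum_univ' w, map_sum, LinearMap.zero_apply]
    exact Finset.sum_eq_zero fun j _ => by rw [map_smul, ← ha j, h0 j, smul_zero]
  have hall : ∀ i, ∃ φ : M →ₗ[R] R, ∀ j, Ideal.Quotient.mk x.asIdeal (φ (s j)) = if j = i then 1 else 0 := fun i => by
    have : (fun j => if j = i then (1 : R ⧸ x.asIdeal) else 0) ∈ W := by rw [hW]; trivial
    exact this
  choose φ hφ using hall
  refine ⟨φ, fun hdet => ?_⟩
  rw [← Ideal.Quotient.eq_zero_iff_mem, RingHom.map_det] at hdet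
  have hone : (Ideal.Quotient.mk x.asIdeal).mapMatrix (Matrix.of fun i j => φ i (s j)) = 1 := by
    ext i j
    simp only [RingHom.mapMatrix_apply, Matrix.map_apply, Matrix.of_apply, hφ, Matrix.one_apply]
    exact if_congr eq_comm rfl rfl
  rw [hone, Matrix.det_one] at hdet
  exact one_ne_zero hdet

lemma ind_of_det {x : MaximalSpectrum R} {h : ℕ} {s : Fin h → M} (φ : Fin h → (M →ₗ[R] R))
    (hd : (Matrix.of fun i j => φ i (s j)).det ∉ x.asIdeal) : Ind x s := by
  classical
  letI := Ideal.Quotient.field x.asIdeal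
  rw [Ind, Fintype.linearIndependent_iff]
  intro c hc
  choose a ha using fun j => Ideal.Quotient.mk_surjective (c j)
  have h0 : img x (∑ j, a j • s j) = 0 := by
    rw [img_sum]
    simp only [img_smul, ha]
    exact hc
  set A := (Ideal.Quotient.mk x.asIdeal).mapMatrix (Matrix.of fun i j => φ i (s j)) with hA
  have hmul : A.mulVec c = 0 := funext fun i => by
    have h1 := Ideal.Quotient.eq_zero_iff_mem.2 ((img_eq_zero x).1 h0 (φ i))
    rw [map_sum, map_sum] at h1
    rw [Pi.zero_apply, ← h1, Matrix.mulVec_eq_sum, Finset.sum_apply]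
    refine Finset.sum_congr rfl fun j _ => ?_
    rw [LinearMap.map_smul (φ i), smul_eq_mul, map_mul, ha, mul_comm]
    rfl
  have hdet : A.det ≠ 0 := by
    rw [hA, ← RingHom.map_det, Ne, Ideal.Quotient.eq_zero_iff_mem]
    exact hd
  intro i
  have h2 : A.adjugate.mulVec (A.mulVec c) = 0 := by rw [hmul, Matrix.mulVec_zero]
  rw [Matrix.mulVec_mulVec, Matrix.adjugate_mul, Matrix.smul_mulVec, Matrix.one_mulVec] at h2
  exact (mul_eq_zero.1 (congrFun h2 i)).resolve_left hdet

/-- the degeneracy locus is closed -/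
lemma isClosed_notInd {h : ℕ} (s : Fin h → M) : IsClosed {x : MaximalSpectrum R | ¬ Ind x s} := by
  rw [← isOpen_compl_iff, Set.compl_setOf]
  simp only [not_not]
  refine isOpen_iff_forall_mem_open.2 fun x hx => ?_
  obtain ⟨φ, hd⟩ := exists_separating hx
  refine ⟨MaximalSpectrum.toPrimeSpectrum ⁻¹'
    (PrimeSpectrum.basicOpen (Matrix.of fun i j => φ i (s j)).det : Set (PrimeSpectrum R)),
    fun y hy => ind_of_det φ hy, ?_, hd⟩
  exact (PrimeSpectrum.basicOpen _).isOpen.preimage MaximalSpectrum.toPrimeSpectrum_continuous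

lemma exists_scalar (T : Finset (MaximalSpectrum R)) (f : MaximalSpectrum R → R) :
    ∃ a : R, ∀ x ∈ T, a - f x ∈ x.asIdeal := by
  obtain ⟨a, ha⟩ := Ideal.exists_forall_sub_mem_ideal (I := fun x : T => (x : MaximalSpectrum R).asIdeal)
    (fun i j hij => MaximalSpectrum.isCoprime_of_ne fun h => hij (Subtype.ext h)) (fun x : T => f x)
  exact ⟨a, fun x hx => ha ⟨x, hx⟩⟩

lemma exists_value (T : Finset (MaximalSpectrum R)) (w : MaximalSpectrum R → M) :
    ∃ t : M, ∀ x ∈ T, img x t = img x (w x) := by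
  classical
  choose e he using fun x : MaximalSpectrum R => exists_scalar T fun y => if y = x then 1 else 0
  refine ⟨∑ x ∈ T, e x • w x, fun x hx => ?_⟩
  rw [img_sum, Finset.sum_eq_single x]
  · have h1 := he x x hx
    rw [if_pos rfl, ← Ideal.Quotient.eq_zero_iff_mem, map_sub, map_one, sub_eq_zero] at h1
    rw [img_smul, h1, one_smul]
  · intro y _ hyx
    have h1 := he y x hx
    rw [if_neg (Ne.symm hyx), sub_zero, ← Ideal.Quotient.eq_zero_iff_mem] at h1
    rw [img_smul, h1, zero_smul]
  · exact fun h => absurd hx h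

variable [TopologicalSpace.NoetherianSpace (MaximalSpectrum R)]

open TopologicalSpace

lemma exists_reps {Y : Set (MaximalSpectrum R)} (hY : IsClosed Y) (E : Set (MaximalSpectrum R)) :
    ∃ (Ys : Finset (MaximalSpectrum R)), (∀ y ∈ Ys, y ∈ Y ∧ y ∉ E) ∧
      ∀ W : IrreducibleCloseds (MaximalSpectrum R), (W : Set (MaximalSpectrum R)) ⊆ Y →
        (∃ C : IrreducibleCloseds (MaximalSpectrum R), W ≤ C ∧ (C : Set (MaximalSpectrum R)) ⊆ Y ∧
          ((C : Set (MaximalSpectrum R)) ⊆ E ∨ ∃ y ∈ Ys, y ∈ (C : Set (MaximalSpectrum R)))) := by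
  classical
  obtain ⟨S, hS, hSc, hSi, rfl⟩ := NoetherianSpace.exists_finite_set_isClosed_irreducible hY
  let pick : Set (MaximalSpectrum R) → Finset (MaximalSpectrum R) := fun C =>
    if hC : (C \ E).Nonempty then {hC.choose} else ∅
  refine ⟨hS.toFinset.biUnion pick, fun y hy => ?_, fun W hW => ?_⟩
  · obtain ⟨C, hC, hyC⟩ := Finset.mem_biUnion.1 hy
    by_cases hne : (C \ E).Nonempty
    · simp only [pick, dif_pos hne, Finset.mem_singleton] at hyC
      subst hyC
      exact ⟨⟨C, hS.mem_toFinset.1 hC, hne.choose_spec.1⟩, hne.choose_spec.2⟩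
    · simp [pick, dif_neg hne] at hyC
  · obtain ⟨C, hC, hWC⟩ := (isIrreducible_iff_sUnion_isClosed.1 W.isIrreducible) hS.toFinset
      (fun C hC => hSc C (hS.mem_toFinset.1 hC)) (by rwa [hS.coe_toFinset])
    rw [Set.Finite.mem_toFinset] at hC
    refine ⟨⟨C, hSi C hC, hSc C hC⟩, hWC, Set.subset_sUnion_of_mem hC, ?_⟩
    by_cases hne : (C \ E).Nonempty
    · refine Or.inr ⟨hne.choose, Finset.mem_biUnion.2 ⟨C, hS.mem_toFinset.2 hC, ?_⟩, hne.choose_spec.1⟩
      simp [pick, dif_pos hne]
    · exact Or.inl fun z hz => by_contra fun hzE => hne ⟨z, hz, hzE⟩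

/-- Serre's general position lemma -/
theorem exists_step : ∀ (k h : ℕ) (s : Fin h → M) (F : Set (MaximalSpectrum R)), IsClosed F →
    ∀ (T : Finset (MaximalSpectrum R)), (∀ x ∈ T, x ∈ F) → ∀ (w : MaximalSpectrum R → M),
    (∀ x, h + k ≤ Module.finrank (R ⧸ x.asIdeal) (V M x)) → (∀ x, ¬ Ind x s → x ∈ F) →
    ∃ (t : M) (F' : Set (MaximalSpectrum R)), IsClosed F' ∧ (∀ x ∈ T, img x t = img x (w x)) ∧
      (∀ x, ¬ Ind x (Fin.snoc s t : Fin (h + 1) → M) → x ∈ F ∪ F') ∧
      ∀ W : IrreducibleCloseds (MaximalSpectrum R), (W : Set (MaximalSpectrum R)) ⊆ F' →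
        (k : ℕ∞) ≤ Order.coheight W := by
  classical
  intro k
  induction k with
  | zero =>
    intro h s F _ T _ w _ _
    obtain ⟨t, ht⟩ := exists_value T w
    exact ⟨t, Set.univ, isClosed_univ, ht, fun x _ => Or.inr trivial, fun W _ => by simp⟩
  | succ k ih =>
    intro h s F hF T hT w hdim hs
    obtain ⟨t', F₁, hF₁, ht', hbad₁, hco₁⟩ := ih h s F hF T hT w (fun x => by have := hdim x; omega) hs
    -- representatives of the components of `F₁` outside `F`
    obtain ⟨Ys, hYs, hYrep⟩ := exists_reps hF₁ F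
    have hext : ∀ y, ∃ u : M, y ∉ F → Ind y (Fin.snoc s u : Fin (h + 1) → M) := fun y => by
      by_cases hy : y ∈ F
      · exact ⟨0, fun h => absurd hy h⟩
      letI := Ideal.Quotient.field y.asIdeal
      have hind : LinearIndependent (R ⧸ y.asIdeal) (fun i => img y (s i)) := by
        by_contra hh; exact hy (hs y hh)
      obtain ⟨v, hv⟩ := exists_linearIndependent_snoc_of_lt_finrank hind (by have := hdim y; omega)
      obtain ⟨u, rfl⟩ := img_surjective y v
      exact ⟨u, fun _ => (ind_snoc_iff y s u).2 hv⟩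
    choose ext hext using hext
    obtain ⟨u, F₂, hF₂, hu, hbad₂, hco₂⟩ := ih (h + 1) (Fin.snoc s t') (F ∪ F₁) (hF.union hF₁) (T ∪ Ys)
      (fun x hx => by
        rcases Finset.mem_union.1 hx with hx | hx
        exacts [Or.inl (hT x hx), Or.inr (hYs x hx).1])
      (fun x => if x ∈ T then 0 else ext x) (fun x => by have := hdim x; omega) hbad₁
    -- representatives of the components of `F₂` outside `F ∪ F₁`
    obtain ⟨Zs, hZs, hZrep⟩ := exists_reps hF₂ (F ∪ F₁)
    -- the coefficient
    obtain ⟨a, ha⟩ := exists_scalar (T ∪ Ys ∪ Zs) fun x =>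
      if x ∈ Ys ∧ ¬ Ind x (Fin.snoc s t' : Fin (h + 1) → M) then 1 else 0
    have hat : ∀ x, img x (t' + a • u) = img x t' + Ideal.Quotient.mk x.asIdeal a • img x u := fun x => by
      rw [img_add, img_smul]
    have hgood : ∀ x ∈ Ys ∪ Zs, Ind x (Fin.snoc s (t' + a • u) : Fin (h + 1) → M) := by
      intro x hx
      have hxF : x ∉ F := by
        rcases Finset.mem_union.1 hx with hx | hx
        exacts [(hYs x hx).2, fun hh => (hZs x hx).2 (Or.inl hh)]
      have hax := ha x (by
        rcases Finset.mem_union.1 hx with hx | hx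
        · exact Finset.mem_union_left _ (Finset.mem_union_right _ hx)
        · exact Finset.mem_union_right _ hx)
      by_cases hi : Ind x (Fin.snoc s t' : Fin (h + 1) → M)
      · rw [if_neg (fun h => h.2 hi), sub_zero, ← Ideal.Quotient.eq_zero_iff_mem] at hax
        rw [ind_snoc_iff, hat, hax, zero_smul, add_zero]
        exact (ind_snoc_iff x s t').1 hi
      · have hxY : x ∈ Ys := by
          rcases Finset.mem_union.1 hx with hx | hx
          · exact hx
          · exact absurd (hbad₁ x hi) (hZs x hx).2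
        rw [if_pos ⟨hxY, hi⟩, ← Ideal.Quotient.eq_zero_iff_mem, map_sub, map_one, sub_eq_zero] at hax
        have hxu : img x u = img x (ext x) := by
          rw [hu x (Finset.mem_union_right _ hxY), if_neg fun hh => hxF (hT x hh)]
        have h1 := (ind_snoc_iff x s (ext x)).1 (hext x hxF)
        letI := Ideal.Quotient.field x.asIdeal
        rw [ind_snoc_iff, linearIndependent_finSnoc] at hi
        rw [linearIndependent_finSnoc] at h1
        rw [ind_snoc_iff, linearIndependent_finSnoc, hat, hax, one_smul]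
        refine ⟨h1.1, fun hmem => h1.2 ?_⟩
        rw [← hxu]
        have : img x t' ∈ Submodule.span (R ⧸ x.asIdeal) (Set.range fun i => img x (s i)) := by
          by_contra hn; exact hi ⟨h1.1, hn⟩
        simpa using sub_mem hmem this
    refine ⟨t' + a • u, ?_⟩
    let Z : Set (MaximalSpectrum R) := {x | ¬ Ind x (Fin.snoc s (t' + a • u) : Fin (h + 1) → M)}
    have hZ : IsClosed Z := isClosed_notInd _
    have hZsub : Z ⊆ (F ∪ F₁) ∪ F₂ := by
      intro x hx
      by_contra hcon
      have h2 : Ind x (Fin.snoc (Fin.snoc s t' : Fin (h + 1) → M) u : Fin (h + 2) → M) := by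
        by_contra hh
        exact hcon (hbad₂ x hh)
      apply hx
      rw [ind_snoc_iff] at h2 ⊢
      letI := Ideal.Quotient.field x.asIdeal
      rw [linearIndependent_finSnoc] at h2 ⊢
      rw [show (fun i => img x ((Fin.snoc s t' : Fin (h + 1) → M) i)) =
        (Fin.snoc (fun i => img x (s i)) (img x t') : Fin (h + 1) → V M x) from Fin.comp_snoc (img x) s t',
        linearIndependent_finSnoc] at h2
      refine ⟨h2.1.1, fun hmem => ?_⟩
      rw [hat] at hmem
      by_cases hax : Ideal.Quotient.mk x.asIdeal a = 0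
      · rw [hax, zero_smul, add_zero] at hmem
        exact h2.1.2 hmem
      · apply h2.2
        set S := Submodule.span (R ⧸ x.asIdeal)
          (Set.range (Fin.snoc (fun i => img x (s i)) (img x t') : Fin (h + 1) → V M x))
        have h3 : Submodule.span (R ⧸ x.asIdeal) (Set.range fun i => img x (s i)) ≤ S := by
          refine Submodule.span_mono ?_
          rintro _ ⟨i, rfl⟩
          exact ⟨i.castSucc, by simp⟩
        have h4 : img x t' ∈ S := Submodule.subset_span ⟨Fin.last h, by simp⟩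
        exact (Submodule.smul_mem_iff S hax).1 (by simpa using sub_mem (h3 hmem) h4)
    obtain ⟨S, hS, hSc, hSi, hSU⟩ := NoetherianSpace.exists_finite_set_isClosed_irreducible hZ
    refine ⟨⋃₀ {C ∈ S | ¬ C ⊆ F}, ?_, ?_, ?_, ?_⟩
    · rw [Set.sUnion_eq_biUnion]
      exact (hS.subset fun C hC => hC.1).isClosed_biUnion fun C hC => hSc C hC.1
    · intro x hx
      have hax := ha x (Finset.mem_union_left _ (Finset.mem_union_left _ hx))
      rw [if_neg (fun hh => (hYs x hh.1).2 (hT x hx)), sub_zero, ← Ideal.Quotient.eq_zero_iff_mem] at hax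
      rw [hat, hax, zero_smul, add_zero, ht' x hx]
    · intro x hx
      obtain ⟨C, hC, hxC⟩ := Set.mem_sUnion.1 (hSU ▸ hx : x ∈ ⋃₀ S)
      by_cases hCF : C ⊆ F
      · exact Or.inl (hCF hxC)
      · exact Or.inr ⟨C, ⟨hC, hCF⟩, hxC⟩
    · intro W hW
      obtain ⟨C, hC, hWC⟩ := (isIrreducible_iff_sUnion_isClosed.1 W.isIrreducible)
        (hS.subset (fun C (hC : C ∈ {C ∈ S | ¬ C ⊆ F}) => hC.1)).toFinset
        (fun C hC => hSc C ((Set.Finite.mem_toFinset _).1 hC).1) (by rwa [Set.Finite.coe_toFinset])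
      rw [Set.Finite.mem_toFinset] at hC
      have hCZ : C ⊆ Z := fun z hz => hSU ▸ Set.mem_sUnion.2 ⟨C, hC.1, hz⟩
      let W' : IrreducibleCloseds (MaximalSpectrum R) := ⟨C, hSi C hC.1, hSc C hC.1⟩
      refine le_trans ?_ (Order.coheight_anti (show W ≤ W' from hWC))
      -- a component of the degeneracy locus not inside `F`
      have key : ∀ (C' : IrreducibleCloseds (MaximalSpectrum R)), W' ≤ C' → (k : ℕ∞) ≤ Order.coheight C' →
          (∀ y ∈ Ys ∪ Zs, y ∈ (C' : Set (MaximalSpectrum R)) → C' ≠ W') ∧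
          (W' ≠ C' → ((k + 1 : ℕ) : ℕ∞) ≤ Order.coheight W') := fun C' hle hk => by
        refine ⟨fun y hy hyC' heq => ?_, fun hne => ?_⟩
        · subst heq; exact hCZ hyC' (hgood y hy)
        · push_cast
          exact le_trans (by gcongr) (Order.coheight_add_one_le (lt_of_le_of_ne hle hne))
      rcases (isPreirreducible_iff_isClosed_union_isClosed.1 (hSi C hC.1).isPreirreducible) (F ∪ F₁) F₂
          (hF.union hF₁) hF₂ (hCZ.trans hZsub) with hsub | hsub
      · rcases (isPreirreducible_iff_isClosed_union_isClosed.1 (hSi C hC.1).isPreirreducible) F F₁ hF hF₁ hsub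
          with hsub | hsub
        · exact absurd hsub hC.2
        · obtain ⟨C', hle, hC'F₁, hC'⟩ := hYrep W' hsub
          obtain ⟨k1, k2⟩ := key C' hle (hco₁ C' hC'F₁)
          rcases hC' with hC'F | ⟨y, hy, hyC'⟩
          · exact absurd (fun z hz => hC'F (hle hz)) hC.2
          · exact k2 (k1 y (Finset.mem_union_left _ hy) hyC').symm
      · obtain ⟨C', hle, hC'F₂, hC'⟩ := hZrep W' hsub
        obtain ⟨k1, k2⟩ := key C' hle (hco₂ C' hC'F₂)
        rcases hC' with hC'F | ⟨y, hy, hyC'⟩
        · rcases (isPreirreducible_iff_isClosed_union_isClosed.1 (hSi C hC.1).isPreirreducible) F F₁ hF hF₁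
            (fun z hz => hC'F (hle hz)) with hsub' | hsub'
          · exact absurd hsub' hC.2
          · obtain ⟨C'', hle', hC''F₁, hC''⟩ := hYrep W' hsub'
            obtain ⟨l1, l2⟩ := key C'' hle' (hco₁ C'' hC''F₁)
            rcases hC'' with hC''F | ⟨y, hy, hyC''⟩
            · exact absurd (fun z hz => hC''F (hle' hz)) hC.2
            · exact l2 (l1 y (Finset.mem_union_left _ hy) hyC'').symm
        · exact k2 (k1 y (Finset.mem_union_right _ hy) hyC').symm

end Groth.Agent.SerreSplit
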